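import Groth.Agent.LinBunLib.Points
import Groth.Agent.HMTransLib.Translate
import Groth.Agent.GrpSchLib.UnitsScheme
import Groth.Agent.GrpSchLib.Action
import Groth.Agent.DescLib.Reduced
import Groth.Prelude.Def_GmPts

/-!
# Uniqueness of linearisations for a group without characters
-/

set_option backward.isDefEq.respectTransparency false
set_option backward.isDefEq.respectTransparency.types false

universe u

open CategoryTheory CategoryTheory.Limits MonoidalCategory CartesianMonoidalCategory MonObj GrpObj AlgebraicGeometry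
  Opposite

namespace Groth.Agent.LinBunLib

open GrpSchLib GrpSchLib.Kunneth

variable {k : Type u} [Field k] [IsAlgClosed k]

local notation "K₁" => (𝟙_ (Over (Spec (CommRingCat.of k))))

/-- A closed point of a scheme locally of finite type carries a rational point. -/
theorem exists_rat_point {Y : Over (Spec (CommRingCat.of k))} [LocallyOfFiniteType Y.hom] {w : Y.left}
    (hw : IsClosed {w}) : ∃ p : K₁ ⟶ Y, p.left (IsLocalRing.closedPoint k) = w := by
  obtain ⟨s, hs⟩ := exists_point_of_isClosed (k := k) (K := k) Y hw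
  let e : K₁ ⟶ Over.mk (Spec.map (CommRingCat.ofHom (algebraMap k k))) :=
    Over.homMk (𝟙 (Spec (CommRingCat.of k))) (by
      show 𝟙 _ ≫ Spec.map (CommRingCat.ofHom (algebraMap k k)) = 𝟙 _
      simp)
  exact ⟨e ≫ s, hs⟩

/-- A function vanishing at no rational point is a unit. -/
theorem isUnit_of_forall_point {Y : Over (Spec (CommRingCat.of k))} [LocallyOfFiniteType Y.hom]
    (f : Γ(Y.left, ⊤)) (h : ∀ p : K₁ ⟶ Y, p.left.appTop f ≠ 0) : IsUnit f := by
  haveI : JacobsonSpace Y.left := LocallyOfFiniteType.jacobsonSpace Y.hom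
  have hbo : Y.left.basicOpen f = ⊤ := by
    by_contra hne
    have hne' : ((Y.left.basicOpen f : Set Y.left))ᶜ.Nonempty := by
      rw [Set.nonempty_compl]
      exact fun e => hne (TopologicalSpace.Opens.ext e)
    obtain ⟨w, hw, hwc⟩ := nonempty_inter_closedPoints hne'
      (Y.left.basicOpen f).isOpen.isClosed_compl.isLocallyClosed
    obtain ⟨p, hp⟩ := exists_rat_point (k := k) (mem_closedPoints_iff.1 hwc)
    apply h p
    by_contra h0
    have hu : IsUnit (p.left.appTop f) := by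
      have h1 : IsUnit ((Scheme.ΓSpecIso (CommRingCat.of k)).hom (p.left.appTop f)) := by
        refine isUnit_iff_ne_zero.2 fun h2 => h0 ?_
        exact (ConcreteCategory.bijective_of_isIso (Scheme.ΓSpecIso (CommRingCat.of k)).hom).1 (h2.trans (map_zero _).symm)
      have h2 := h1.map (Scheme.ΓSpecIso (CommRingCat.of k)).inv.hom
      rwa [← CommRingCat.comp_apply, Iso.hom_inv_id] at h2
    have h3 := Scheme.preimage_basicOpen_top p.left f
    rw [Scheme.basicOpen_of_isUnit _ hu] at h3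
    exact hw (hp ▸ (h3.ge (Set.mem_univ (IsLocalRing.closedPoint k) : _) : _))
  exact RingedSpace.isUnit_of_isUnit_germ _ ⊤ f fun x hx =>
    (Scheme.mem_basicOpen _ f x hx).1 (hbo.ge hx)

/-- Maps out of a reduced scheme over a separated morphism agreeing on rational points are equal. -/
theorem hom_ext_of_rat_points {Y V X : Over (Spec (CommRingCat.of k))} [IsReduced Y.left] [LocallyOfFiniteType Y.hom]
    (π : V ⟶ X) [IsSeparated π.left] (a b : Y ⟶ V) (hab : a ≫ π = b ≫ π)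
    (h : ∀ p : K₁ ⟶ Y, p ≫ a = p ≫ b) : a = b := by
  haveI : JacobsonSpace Y.left := LocallyOfFiniteType.jacobsonSpace Y.hom
  let z := pullback.lift a.left b.left (congrArg Over.Hom.left hab)
  let i := pullback.snd (pullback.diagonal π.left) z
  haveI : IsClosedImmersion i := MorphismProperty.pullback_snd _ _ inferInstance
  haveI : Surjective i := by
    refine ⟨Set.range_eq_univ.1 ?_⟩
    by_contra hne
    obtain ⟨w, hw, hwc⟩ := nonempty_inter_closedPoints (Set.nonempty_compl.2 hne)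
      i.isClosedEmbedding.isClosed_range.isOpen_compl.isLocallyClosed
    obtain ⟨p, rfl⟩ := exists_rat_point (k := k) (mem_closedPoints_iff.1 hwc)
    let q : Spec (CommRingCat.of k) ⟶ pullback (pullback.diagonal π.left) z :=
      pullback.lift (p.left ≫ a.left) p.left (by
        apply pullback.hom_ext
        · simp [z]
        · simpa [z] using congrArg Over.Hom.left (h p))
    exact hw ⟨q (IsLocalRing.closedPoint k), by rw [← Scheme.Hom.comp_apply]; simp [i, q]⟩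
  haveI := isIso_of_isClosedImmersion_of_surjective i
  have h1 := congrArg (· ≫ pullback.fst π.left π.left) (pullback.condition (f := pullback.diagonal π.left) (g := z))
  have h2 := congrArg (· ≫ pullback.snd π.left π.left) (pullback.condition (f := pullback.diagonal π.left) (g := z))
  simp only [z, Category.assoc, pullback.diagonal_fst, pullback.diagonal_snd, Category.comp_id,
    pullback.lift_fst, pullback.lift_snd] at h1 h2
  exact Over.OverMorphism.ext ((cancel_epi i).1 (h1.symm.trans h2))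

/-- Without characters, a function equal to `1` at the origin and vanishing nowhere is `1`. -/
theorem unit_eq_one {G : Over (Spec (CommRingCat.of k))} [GrpObj G] [Smooth G.hom] [QuasiCompact G.hom]
    [ConnectedSpace G.left]
    (hχ : ∀ (χ : G ⟶ Red.Gm (Spec (CommRingCat.of k))) [IsMonHom χ], χ = 1)
    (f : Γ(G.left, ⊤)) (hf : IsUnit f) (he : η[G].left.appTop f = 1) : f = 1 := by
  have hchar := unit_isChar (G := G) (f := f) hf ((evPt_eq_one_iff _ _).2 he)
  let χ : G ⟶ Red.Gm (Spec (CommRingCat.of k)) := GmPts.ptOfUnit hf.unit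
  have hfn : Red.gmFn χ = f := GmPts.gmFn_ptOfUnit _
  haveI : IsMonHom χ := by
    constructor
    · refine GmPts.gmFn_injective ?_
      show Red.gmFn (η[G] ≫ χ) = Red.gmFn η[Red.Gm (Spec (CommRingCat.of k))]
      rw [GmPts.gmFn_comp, hfn, show (η[Red.Gm (Spec (CommRingCat.of k))] : K₁ ⟶ _) = 1 by
        rw [Hom.one_def, toUnit_unit, Category.id_comp], GmPts.gmFn_one]
      exact he
    · refine GmPts.gmFn_injective ?_
      show Red.gmFn (μ[G] ≫ χ) = Red.gmFn ((χ ⊗ₘ χ) ≫ μ[Red.Gm (Spec (CommRingCat.of k))])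
      rw [show (χ ⊗ₘ χ) ≫ μ[Red.Gm (Spec (CommRingCat.of k))] = (fst G G ≫ χ) * (snd G G ≫ χ) by
          rw [Hom.mul_def, lift_fst_comp_snd_comp],
        GmPts.gmFn_mul, GmPts.gmFn_comp, GmPts.gmFn_comp, GmPts.gmFn_comp, hfn]
      exact hchar
  rw [← hfn, hχ χ, GmPts.gmFn_one]

variable {G X : Over (Spec (CommRingCat.of k))} [GrpObj G] {a : AlgGrp.Action G X}

omit [IsAlgClosed k] in
theorem act_π (B : GLinSh.LinBun G a) {T : Over (Spec (CommRingCat.of k))} (g : T ⟶ G) (v : T ⟶ B.V) :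
    (lift g v ≫ B.lift.act) ≫ B.π = lift g (v ≫ B.π) ≫ a.act := by
  rw [Category.assoc, B.lift_π, lift_whiskerLeft_assoc]

omit [IsAlgClosed k] in
theorem evalFn_congr {V Y : Over (Spec (CommRingCat.of k))} {π : V ⟶ Y} {U : Y.left.Opens} (y : Γ(V.left, π.left ⁻¹ᵁ U))
    {T : Over (Spec (CommRingCat.of k))} {v v' : T ⟶ V} (e : v = v') (h₁) (h₂) :
    HMNum.evalFn π y v h₁ = HMNum.evalFn π y v' h₂ := by
  subst e; rfl

theorem linearisation_unique {V : Over (Spec (CommRingCat.of k))}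
    [Smooth G.hom] [QuasiCompact G.hom] [ConnectedSpace G.left]
    (hχ : ∀ (χ : G ⟶ Red.Gm (Spec (CommRingCat.of k))) [IsMonHom χ], χ = 1)
    [LocallyOfFiniteType X.hom] [IsReduced X.left]
    (π : V ⟶ X) (A : GLinSh.LinAtlas π)
    (Φ₁ Φ₂ : AlgGrp.Action G V) (h₁ : Φ₁.act ≫ π = (G ◁ π) ≫ a.act) (h₂ : Φ₂.act ≫ π = (G ◁ π) ≫ a.act)
    (hl₁ : GLinSh.IsLinearLift a π Φ₁ A.chart h₁) (hl₂ : GLinSh.IsLinearLift a π Φ₂ A.chart h₂) :
    Φ₁.act = Φ₂.act := by
  let B₁ : GLinSh.LinBun G a := ⟨V, π, A, Φ₁, h₁, hl₁⟩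
  let B₂ : GLinSh.LinBun G a := ⟨V, π, A, Φ₂, h₂, hl₂⟩
  haveI := A.affine
  haveI : Smooth π.left := smooth_left A.affine A.cover A.coord
  haveI : IsReduced V.left := Groth.Agent.DescLib.isReduced_of_smooth_of_isReduced π.left
  haveI : LocallyOfFiniteType V.hom := by rw [← Over.w π]; infer_instance
  haveI : Smooth (snd G V).left := inferInstanceAs (Smooth (pullback.snd G.hom V.hom))
  haveI : IsReduced (G ⊗ V).left := Groth.Agent.DescLib.isReduced_of_smooth_of_isReduced (snd G V).left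
  haveI : LocallyOfFiniteType (G ⊗ V).hom := by rw [← Over.w (snd G V)]; infer_instance
  haveI : IsAffine (K₁).left := inferInstanceAs (IsAffine (Spec (CommRingCat.of k)))
  haveI : Nontrivial Γ((K₁).left, ⊤) :=
    (Scheme.ΓSpecIso (CommRingCat.of k)).commRingCatIsoToRingEquiv.toEquiv.nontrivial
  refine hom_ext_of_rat_points π _ _ (h₁.trans h₂.symm) fun p => ?_
  obtain ⟨g, v, rfl⟩ : ∃ g v, p = lift g v := ⟨p ≫ fst G V, p ≫ snd G V, by ext <;> simp⟩
  let x := v ≫ π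
  obtain ⟨U, hxU, y, hy⟩ := A.cover (x.left (IsLocalRing.closedPoint k))
  obtain ⟨W, hW, hxW, hWU⟩ := exists_isAffineOpen_mem_and_subset hxU
  have hxW' : x.left ⁻¹ᵁ W = ⊤ := HMTransLib.top_of_mem x hxW
  have hxU' : x.left ⁻¹ᵁ U = ⊤ := HMTransLib.top_of_mem x hxU
  have hc := A.coord U y hy
  -- points over `x` and their coordinate
  have hWle : ∀ w : K₁ ⟶ V, w ≫ π = x → ⊤ ≤ w.left ⁻¹ᵁ (π.left ⁻¹ᵁ W) := by
    intro w hw
    show ⊤ ≤ (w ≫ π).left ⁻¹ᵁ W
    rw [hw, hxW']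
  have hUle : ∀ w : K₁ ⟶ V, w ≫ π = x → ⊤ ≤ w.left ⁻¹ᵁ (π.left ⁻¹ᵁ U) := fun w hw =>
    (hWle w hw).trans (w.left.preimage_mono (π.left.preimage_mono hWU))
  obtain ⟨w₁, hw₁, hw₁U, e₁⟩ := exists_pt A.affine hW hWU hc x hxW'.ge 1
  obtain ⟨w₀, hw₀, hw₀U, e₀⟩ := exists_pt A.affine hW hWU hc x hxW'.ge 0
  -- the comparison map on points over `x`
  let R : (K₁ ⟶ G) → (K₁ ⟶ V) → (K₁ ⟶ V) := fun h w => lift h⁻¹ (lift h w ≫ Φ₁.act) ≫ Φ₂.act
  have hRπ : ∀ h w, w ≫ π = x → R h w ≫ π = x := by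
    intro h w hw
    show (lift h⁻¹ (lift h w ≫ B₁.lift.act) ≫ B₂.lift.act) ≫ B₂.π = x
    rw [act_π B₂]
    show lift h⁻¹ ((lift h w ≫ B₁.lift.act) ≫ B₁.π) ≫ a.act = x
    rw [act_π B₁, show w ≫ B₁.π = x from hw, act_mul, inv_mul_cancel, act_one]
  -- linearity
  have hlin : ∀ h : K₁ ⟶ G, ∃ D : Γ((K₁).left, ⊤), ∀ (w : K₁ ⟶ V) (hw : w ≫ π = x),
      HMNum.evalFn π y (R h w) (hUle _ (hRπ h w hw)) = D * HMNum.evalFn π y w (hUle w hw) := by
    intro h
    let x' := lift h x ≫ a.act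
    obtain ⟨U', hx'U', y', hy'⟩ := A.cover (x'.left (IsLocalRing.closedPoint k))
    have hx'U'' : x'.left ⁻¹ᵁ U' = ⊤ := HMTransLib.top_of_mem x' hx'U'
    have hback : lift h⁻¹ x' ≫ a.act = x := by rw [act_mul, inv_mul_cancel, act_one]
    obtain ⟨C₁, hC₁⟩ := HMTransLib.evalFn_act B₁ hy hy' h x hxU' hx'U''
    obtain ⟨C₂, hC₂⟩ := HMTransLib.evalFn_act B₂ hy' hy h⁻¹ x' hx'U'' (by rw [hback]; exact hxU')
    refine ⟨C₂ * C₁, fun w hw => ?_⟩
    have hmid : (lift h w ≫ Φ₁.act) ≫ π = x' := by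
      show (lift h w ≫ B₁.lift.act) ≫ B₁.π = x'
      rw [act_π B₁]
      show lift h (w ≫ π) ≫ a.act = x'
      rw [hw]
    have hmidU : ⊤ ≤ (lift h w ≫ Φ₁.act).left ⁻¹ᵁ (π.left ⁻¹ᵁ U') := by
      show ⊤ ≤ ((lift h w ≫ Φ₁.act) ≫ π).left ⁻¹ᵁ U'
      rw [hmid, hx'U'']
    refine (hC₂ _ hmid (hUle _ (hRπ h w hw)) hmidU).trans ?_
    rw [_root_.mul_assoc]
    exact congrArg (C₂ * ·) (hC₁ w hw hmidU (hUle w hw))
  have hne : ∀ h, HMNum.evalFn π y (R h w₁) (hUle _ (hRπ h w₁ hw₁)) ≠ 0 := by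
    intro h h0
    obtain ⟨D, hD⟩ := hlin h
    have e : R h w₁ = R h w₀ := by
      refine pt_ext A.affine hW hWU hc _ _ (by rw [hRπ h w₁ hw₁, hRπ h w₀ hw₀]) (hWle _ (hRπ h w₁ hw₁)) ?_
      exact h0.trans (((hD w₀ hw₀).trans (by rw [e₀, mul_zero])).symm)
    have e' := congrArg (fun w => lift h⁻¹ (lift h w ≫ Φ₂.act) ≫ Φ₁.act) e
    simp only [R, act_mul Φ₂, mul_inv_cancel, act_one Φ₂, act_mul Φ₁, inv_mul_cancel, act_one Φ₁] at e'
    subst e'
    exact one_ne_zero (e₁.symm.trans e₀)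
  -- the function on `G`
  let q : G ⟶ V := lift (𝟙 G)⁻¹ (lift (𝟙 G) (toUnit G ≫ w₁) ≫ Φ₁.act) ≫ Φ₂.act
  have hpq : ∀ h : K₁ ⟶ G, h ≫ q = R h w₁ := by
    intro h
    show h ≫ (lift (𝟙 G)⁻¹ (lift (𝟙 G) (toUnit G ≫ w₁) ≫ Φ₁.act) ≫ Φ₂.act) = _
    rw [comp_lift_assoc, GrpObj.comp_inv, Category.comp_id, comp_lift_assoc, Category.comp_id,
      ← Category.assoc h (toUnit G), comp_toUnit, toUnit_unit, Category.id_comp]
  have hqπ : q ≫ π = toUnit G ≫ x := by
    show (lift (𝟙 G)⁻¹ (lift (𝟙 G) (toUnit G ≫ w₁) ≫ B₁.lift.act) ≫ B₂.lift.act) ≫ B₂.π = _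
    rw [act_π B₂]
    show lift (𝟙 G)⁻¹ ((lift (𝟙 G) (toUnit G ≫ w₁) ≫ B₁.lift.act) ≫ B₁.π) ≫ a.act = _
    rw [act_π B₁, act_mul, inv_mul_cancel, act_one]
    exact (Category.assoc _ _ _).trans (congrArg (toUnit G ≫ ·) hw₁)
  have hqU : ⊤ ≤ q.left ⁻¹ᵁ (π.left ⁻¹ᵁ U) := by
    show ⊤ ≤ (q ≫ π).left ⁻¹ᵁ U
    rw [hqπ]
    show ⊤ ≤ (toUnit G).left ⁻¹ᵁ (x.left ⁻¹ᵁ U)
    rw [hxU']; exact le_rfl
  let f : Γ(G.left, ⊤) := HMNum.evalFn π y q hqU
  have hval : ∀ h : K₁ ⟶ G, h.left.appTop f = HMNum.evalFn π y (R h w₁) (hUle _ (hRπ h w₁ hw₁)) := by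
    intro h
    refine Eq.trans ?_ (evalFn_congr y (hpq h) (by rw [hpq h]; exact hUle _ (hRπ h w₁ hw₁)) _)
    show h.left.app ⊤ (q.left.appLE _ ⊤ hqU y) = (h ≫ q).left.appLE _ ⊤ _ y
    simp only [← CommRingCat.comp_apply, Scheme.Hom.app_eq_appLE, Scheme.Hom.appLE_comp_appLE]
    rfl
  have hf1 : f = 1 := by
    refine unit_eq_one hχ f (isUnit_of_forall_point f fun h => (hval h).symm ▸ hne h) ?_
    rw [hval η[G]]
    refine (evalFn_congr y ?_ _ hw₁U).trans e₁
    show R η[G] w₁ = w₁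
    have he1 : (η[G] : K₁ ⟶ G) = 1 := by rw [Hom.one_def, toUnit_unit, Category.id_comp]
    simp only [R, he1, inv_one, act_one]
  have hfix : R g v = v := by
    obtain ⟨D, hD⟩ := hlin g
    have hD1 : D = 1 := by
      have := (hval g).trans (hD w₁ hw₁)
      rw [hf1, map_one, e₁, _root_.mul_one] at this
      exact this.symm
    refine pt_ext A.affine hW hWU hc _ _ (hRπ g v rfl) (hWle _ (hRπ g v rfl)) ?_
    rw [hD v rfl, hD1, _root_.one_mul]
  have e := congrArg (fun w => lift g w ≫ Φ₂.act) hfix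
  simpa only [R, act_mul Φ₂, mul_inv_cancel, act_one Φ₂] using e

end Groth.Agent.LinBunLib
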