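import Groth.Prelude.Def_HMNum
import Mathlib.AlgebraicGeometry.Morphisms.Smooth

/-!
# Points of the total space of a line bundle in a fibre coordinate

A point of `V` over a point `x` of `X` lying in an affine open with an admissible coordinate `y` is the
same thing as the value of `y`.
-/

set_option backward.isDefEq.respectTransparency false
set_option backward.isDefEq.respectTransparency.types false

universe u

open CategoryTheory CategoryTheory.Limits AlgebraicGeometry Opposite TopologicalSpace MonoidalCategory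
  CartesianMonoidalCategory

namespace Groth.Agent.LinBunLib

/-- A morphism into an affine open is read off from its effect on functions. -/
theorem eq_toSpecΓ_appLE {T Y : Scheme.{u}} {W : Y.Opens} (hW : IsAffineOpen W) (q : T ⟶ Y)
    (hq : ⊤ ≤ q ⁻¹ᵁ W) : T.toSpecΓ ≫ Spec.map (q.appLE W ⊤ hq) ≫ hW.fromSpec = q := by
  haveI : IsIso (⊤ : T.Opens).ι := inferInstanceAs (IsIso (Scheme.topIso T).hom)
  rw [← cancel_epi (⊤ : T.Opens).ι]
  have h : (⊤ : T.Opens).toSpecΓ = (⊤ : T.Opens).ι ≫ T.toSpecΓ := by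
    rw [← Scheme.Opens.toSpecΓ_SpecMap_presheaf_map_top]
    simp
  rw [← Category.assoc, ← h, Scheme.Opens.toSpecΓ_SpecMap_appLE_assoc, IsAffineOpen.toSpecΓ_fromSpec,
    Scheme.Hom.resLE_comp_ι]

/-- Two morphisms into an affine open with the same effect on functions are equal. -/
theorem eq_of_appLE_eq {T Y : Scheme.{u}} {W : Y.Opens} (hW : IsAffineOpen W) (f g : T ⟶ Y)
    (hf : ⊤ ≤ f ⁻¹ᵁ W) (hg : ⊤ ≤ g ⁻¹ᵁ W) (h : f.appLE W ⊤ hf = g.appLE W ⊤ hg) : f = g := by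
  rw [← eq_toSpecΓ_appLE hW f hf, ← eq_toSpecΓ_appLE hW g hg, h]

variable {S : Scheme.{u}} {X V : Over S} {π : V ⟶ X} (hπ : IsAffineHom π.left)
include hπ

/-- A point over `x` is determined by its coordinate. -/
theorem pt_ext {W : X.left.Opens} (hW : IsAffineOpen W) {U : X.left.Opens} (hWU : W ≤ U)
    {y : Γ(V.left, π.left ⁻¹ᵁ U)} (hy : GLinSh.IsFibreCoord π U y) {T : Over S} (v v' : T ⟶ V)
    (hvv : v ≫ π = v' ≫ π) (hv : ⊤ ≤ v.left ⁻¹ᵁ (π.left ⁻¹ᵁ W))
    (h : HMNum.evalFn π y v (hv.trans (v.left.preimage_mono (π.left.preimage_mono hWU))) =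
      HMNum.evalFn π y v' (by
        refine (le_trans hv (le_of_eq ?_)).trans (v'.left.preimage_mono (π.left.preimage_mono hWU))
        show (v ≫ π).left ⁻¹ᵁ W = (v' ≫ π).left ⁻¹ᵁ W
        rw [hvv])) : v = v' := by
  have := hπ
  have hv' : ⊤ ≤ v'.left ⁻¹ᵁ (π.left ⁻¹ᵁ W) := by
    refine le_trans hv (le_of_eq ?_)
    show (v ≫ π).left ⁻¹ᵁ W = (v' ≫ π).left ⁻¹ᵁ W
    rw [hvv]
  refine Over.OverMorphism.ext (eq_of_appLE_eq (hW.preimage π.left) v.left v'.left hv hv' ?_)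
  ext a
  obtain ⟨p, rfl⟩ := (hy W hW hWU).2 a
  refine RingHom.congr_fun (f := (v.left.appLE _ ⊤ hv).hom.comp _) (g := (v'.left.appLE _ ⊤ hv').hom.comp _)
    (Polynomial.ringHom_ext (fun c => ?_) ?_) p
  · simp only [RingHom.comp_apply, Polynomial.coe_eval₂RingHom, Polynomial.eval₂_C]
    have key : ∀ (f f' : T.left ⟶ X.left) (_ : f = f') (e₁ : ⊤ ≤ f ⁻¹ᵁ W) (e₂ : ⊤ ≤ f' ⁻¹ᵁ W),
        f.appLE W ⊤ e₁ c = f'.appLE W ⊤ e₂ c := by
      rintro f f' rfl e₁ e₂; rfl
    rw [← CommRingCat.comp_apply, ← CommRingCat.comp_apply, Scheme.Hom.app_eq_appLE,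
      Scheme.Hom.appLE_comp_appLE, Scheme.Hom.appLE_comp_appLE]
    exact key _ _ (congrArg Over.Hom.left hvv) _ _
  · simp only [RingHom.comp_apply, Polynomial.coe_eval₂RingHom, Polynomial.eval₂_X]
    simp only [GLinSh.res, ← CommRingCat.comp_apply, Scheme.Hom.map_appLE]
    exact h

/-- A point over `x` with any coordinate exists. -/
theorem exists_pt {W : X.left.Opens} (hW : IsAffineOpen W) {U : X.left.Opens} (hWU : W ≤ U)
    {y : Γ(V.left, π.left ⁻¹ᵁ U)} (hy : GLinSh.IsFibreCoord π U y) {T : Over S} [IsAffine T.left] (x : T ⟶ X)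
    (hx : ⊤ ≤ x.left ⁻¹ᵁ W) (t : Γ(T.left, ⊤)) :
    ∃ (v : T ⟶ V) (_ : v ≫ π = x) (hv : ⊤ ≤ v.left ⁻¹ᵁ (π.left ⁻¹ᵁ U)),
      HMNum.evalFn π y v hv = t := by
  have := hπ
  let e := RingEquiv.ofBijective _ (hy W hW hWU)
  let φ : Γ(V.left, π.left ⁻¹ᵁ W) ⟶ Γ(T.left, ⊤) :=
    CommRingCat.ofHom ((Polynomial.eval₂RingHom (x.left.appLE W ⊤ hx).hom t).comp e.symm.toRingHom)
  let hW' := hW.preimage π.left
  let g : T.left ⟶ V.left := T.left.toSpecΓ ≫ Spec.map φ ≫ hW'.fromSpec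
  have hg : ⊤ ≤ g ⁻¹ᵁ (π.left ⁻¹ᵁ W) := by
    intro z _
    show hW'.fromSpec ((T.left.toSpecΓ ≫ Spec.map φ) z) ∈ (π.left ⁻¹ᵁ W : V.left.Opens)
    exact hW'.range_fromSpec.le (Set.mem_range_self _)
  have hgapp : g.appLE (π.left ⁻¹ᵁ W) ⊤ hg = φ := by
    refine Spec.map_injective ?_
    rw [← cancel_mono hW'.fromSpec, ← cancel_epi T.left.toSpecΓ, eq_toSpecΓ_appLE hW' g hg]
  have hgπ : g ≫ π.left = x.left := by
    refine eq_of_appLE_eq hW _ _ hg hx ?_
    rw [← Scheme.Hom.appLE_comp_appLE g π.left W (π.left ⁻¹ᵁ W) ⊤ le_rfl hg, hgapp, ← Scheme.Hom.app_eq_appLE]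
    ext c
    show Polynomial.eval₂RingHom _ t (e.symm (π.left.app W c)) = _
    rw [show π.left.app W c = e (Polynomial.C c) from (Polynomial.eval₂_C (π.left.app W).hom _).symm,
      RingEquiv.symm_apply_apply]
    exact Polynomial.eval₂_C _ _
  let v : T ⟶ V := Over.homMk g (by rw [← Over.w π, ← Category.assoc, hgπ, Over.w x])
  refine ⟨v, Over.OverMorphism.ext hgπ, hg.trans (g.preimage_mono (π.left.preimage_mono hWU)), ?_⟩
  have h2 : HMNum.evalFn π y v (hg.trans (g.preimage_mono (π.left.preimage_mono hWU))) =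
      g.appLE (π.left ⁻¹ᵁ W) ⊤ hg (GLinSh.res π hWU y) := by
    simp only [GLinSh.res, ← CommRingCat.comp_apply, Scheme.Hom.map_appLE]
    rfl
  rw [h2, hgapp]
  show Polynomial.eval₂RingHom _ t (e.symm (GLinSh.res π hWU y)) = t
  rw [show GLinSh.res π hWU y = e Polynomial.X from (Polynomial.eval₂_X (π.left.app W).hom _).symm,
    RingEquiv.symm_apply_apply]
  exact Polynomial.eval₂_X _ _

/-- A line bundle is smooth over its base. -/
theorem smooth_left {chart : ∀ U : X.left.Opens, Set (Γ(V.left, π.left ⁻¹ᵁ U))}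
    (hcov : ∀ x : X.left, ∃ U : X.left.Opens, x ∈ U ∧ (chart U).Nonempty)
    (hcoord : ∀ (U : X.left.Opens) (y : Γ(V.left, π.left ⁻¹ᵁ U)), y ∈ chart U → GLinSh.IsFibreCoord π U y) :
    Smooth π.left := by
  have := hπ
  rw [HasRingHomProperty.iff_exists_appLE (P := @Smooth)]
  · intro p
    obtain ⟨U, hpU, y, hy⟩ := hcov (π.left p)
    obtain ⟨W, hW, hpW, hWU⟩ := exists_isAffineOpen_mem_and_subset hpU
    refine ⟨⟨W, hW⟩, ⟨π.left ⁻¹ᵁ W, hW.preimage π.left⟩, hpW, le_rfl, ?_⟩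
    let e := RingEquiv.ofBijective _ (hcoord U y hy W hW hWU)
    have he : (π.left.appLE W (π.left ⁻¹ᵁ W) le_rfl).hom = e.toRingHom.comp Polynomial.C := by
      ext c
      rw [← Scheme.Hom.app_eq_appLE]
      exact (Polynomial.eval₂_C (π.left.app W).hom _).symm
    rw [he]
    refine RingHom.Smooth.stableUnderComposition _ _ ?_ (RingHom.Smooth.of_bijective e.bijective)
    haveI : Algebra.FormallySmooth Γ(X.left, W) (Polynomial Γ(X.left, W)) :=
      .of_equiv (MvPolynomial.pUnitAlgEquiv.{u, u} Γ(X.left, W))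
    exact RingHom.smooth_algebraMap.mpr ⟨inferInstance, inferInstance⟩
  · exact (RingHom.Smooth.stableUnderComposition.stableUnderCompositionWithLocalizationAway
      RingHom.Smooth.holdsForLocalizationAway).1

end Groth.Agent.LinBunLib
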